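import Groth.Agent.ProperConnLib.PureInsep
import Groth.Agent.S4463
import Groth.Agent.S9821
import Groth.Prelude.Def_ega3
import Mathlib

/-!
# Connected fibres of a proper morphism to a normal scheme with geometrically connected generic fibre
-/

set_option autoImplicit false
set_option backward.isDefEq.respectTransparency false
set_option backward.isDefEq.respectTransparency.types false
set_option linter.style.haveILetI false

universe u

open CategoryTheory CategoryTheory.Limits AlgebraicGeometry TensorProduct

namespace Groth.Agent.ProperConnLib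

variable {X Y : Scheme.{u}} [IsIntegral X] [IsIntegral Y]

/-- An integral morphism from an integral scheme to a normal one with geometrically connected generic
fibre is injective. -/
theorem injective_of_integral (hY : Pi1.IsNormalScheme Y) (π : X ⟶ Y) [IsIntegralHom π]
    (hgen : π (genericPoint X) = genericPoint Y) {Ω : Type u} [Field Ω] [IsAlgClosed Ω]
    (η : Spec (CommRingCat.of Ω) ⟶ Y) (hη : η (IsLocalRing.closedPoint Ω) = genericPoint Y)
    [PreconnectedSpace ↥(pullback η π)] : Function.Injective π := by
  intro z z' hzz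
  obtain ⟨_, ⟨U, hU, rfl⟩, hyU, -⟩ :=
    Y.isBasis_affineOpens.exists_subset_of_mem_open (Set.mem_univ (π z)) isOpen_univ
  have hU' : IsAffineOpen U := hU
  let W := π ⁻¹ᵁ U
  have hW : IsAffineOpen W := hU'.preimage π
  have hzW : z ∈ W := hyU
  have hz'W : z' ∈ W := show π z' ∈ U from hzz ▸ hyU
  haveI : Nonempty U := ⟨⟨_, hyU⟩⟩
  haveI : Nonempty W := ⟨⟨_, hzW⟩⟩
  haveI : IsDomain Γ(Y, U) := inferInstance
  haveI : IsDomain Γ(X, W) := inferInstance
  haveI : IsIntegrallyClosed Γ(Y, U) := (S9821.result Y).1 hY U hU'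
  let φ := π.appLE U W le_rfl
  letI : Algebra Γ(Y, U) Γ(X, W) := φ.hom.toAlgebra
  have hφ : φ.hom.IsIntegral := by
    have := π.isIntegral_app U hU'
    simpa [φ, W, Scheme.Hom.app_eq_appLE] using this
  haveI : Algebra.IsIntegral Γ(Y, U) Γ(X, W) := ⟨hφ⟩
  have hgW : genericPoint X ∈ W :=
    ((genericPoint_spec X).mem_open_set_iff W.isOpen).mpr ⟨z, trivial, hzW⟩
  have hgU : genericPoint Y ∈ U :=
    ((genericPoint_spec Y).mem_open_set_iff U.isOpen).mpr ⟨_, trivial, hyU⟩
  have hgenX : (hW.primeIdealOf ⟨genericPoint X, hgW⟩).asIdeal = ⊥ := by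
    rw [hW.primeIdealOf_genericPoint, genericPoint_eq_bot_of_affine]; rfl
  have hgenY : (hU'.primeIdealOf ⟨genericPoint Y, hgU⟩).asIdeal = ⊥ := by
    rw [hU'.primeIdealOf_genericPoint, genericPoint_eq_bot_of_affine]; rfl
  have hA : Function.Injective (algebraMap Γ(Y, U) Γ(X, W)) := by
    rw [RingHom.injective_iff_ker_eq_bot, ← hgenY]
    have e := congrArg PrimeSpectrum.asIdeal
      (IsAffineOpen.comap_primeIdealOf_appLE U hU' W hW le_rfl hgW)
    rw [PrimeSpectrum.comap_asIdeal, hgenX] at e
    refine e.trans ?_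
    exact congrArg (fun y : U => (hU'.primeIdealOf y).asIdeal) (Subtype.ext hgen)
  -- the geometric point factors through `U`
  have hrange : Set.range η ⊆ Set.range hU'.fromSpec := by
    rintro _ ⟨p, rfl⟩
    rw [Subsingleton.elim p (IsLocalRing.closedPoint Ω), hη, hU'.range_fromSpec]
    exact hgU
  obtain ⟨ψ, hψ⟩ := Spec.map_surjective (IsOpenImmersion.lift hU'.fromSpec η hrange)
  have hψη : Spec.map ψ ≫ hU'.fromSpec = η := by rw [hψ, IsOpenImmersion.lift_fac]
  letI : Algebra Γ(Y, U) Ω := ψ.hom.toAlgebra
  have hΩ : Function.Injective (algebraMap Γ(Y, U) Ω) := by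
    have e : Spec.map ψ (IsLocalRing.closedPoint Ω) = hU'.primeIdealOf ⟨genericPoint Y, hgU⟩ := by
      apply hU'.fromSpec.isOpenEmbedding.injective
      rw [hU'.fromSpec_primeIdealOf, ← Scheme.Hom.comp_apply, hψη, hη]
    have e2 := congrArg PrimeSpectrum.asIdeal e
    rw [hgenY] at e2
    rw [RingHom.injective_iff_ker_eq_bot, ← e2]
    show RingHom.ker ψ.hom = (IsLocalRing.closedPoint Ω).asIdeal.comap ψ.hom
    rw [show (IsLocalRing.closedPoint Ω).asIdeal = ⊥ from IsLocalRing.maximalIdeal_eq_bot]
    rfl
  have hchart : IsPullback hW.fromSpec (Spec.map φ) π hU'.fromSpec :=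
    (IsOpenImmersion.isPullback (Spec.map φ) hW.fromSpec hU'.fromSpec π
      (hU'.SpecMap_appLE_fromSpec π hW le_rfl).symm
      (by rw [hW.opensRange_fromSpec, hU'.opensRange_fromSpec])).flip
  have hbig : IsPullback
      (pullback.fst (Spec.map ψ) (Spec.map φ))
      (pullback.snd (Spec.map ψ) (Spec.map φ) ≫ hW.fromSpec) η π := by
    rw [← hψη]
    exact (IsPullback.of_hasPullback (Spec.map ψ) (Spec.map φ)).paste_vert hchart.flip
  let e : pullback η π ≅ Spec (CommRingCat.of (Ω ⊗[Γ(Y, U)] Γ(X, W))) :=
    hbig.isoPullback.symm ≪≫ pullbackSpecIso Γ(Y, U) Ω Γ(X, W)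
  haveI : PreconnectedSpace (PrimeSpectrum (Ω ⊗[Γ(Y, U)] Γ(X, W))) :=
    ⟨by
      rw [← e.hom.homeomorph.surjective.range_eq, ← Set.image_univ]
      exact isPreconnected_univ.image _ e.hom.homeomorph.continuous.continuousOn⟩
  have hp : hW.primeIdealOf ⟨z, hzW⟩ = hW.primeIdealOf ⟨z', hz'W⟩ := by
    have hc : (hW.primeIdealOf ⟨z, hzW⟩).comap φ.hom = (hW.primeIdealOf ⟨z', hz'W⟩).comap φ.hom := by
      rw [IsAffineOpen.comap_primeIdealOf_appLE U hU' W hW le_rfl hzW,
        IsAffineOpen.comap_primeIdealOf_appLE U hU' W hW le_rfl hz'W]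
      exact congrArg hU'.primeIdealOf (Subtype.ext hzz)
    refine PrimeSpectrum.ext (Ideal.ext fun b => ?_)
    obtain ⟨n, hn, a, ha⟩ := exists_pow_mem (Ω := Ω) hA hΩ b
    have key : ∀ p : PrimeSpectrum Γ(X, W), b ∈ p.asIdeal ↔ a ∈ (p.comap φ.hom).asIdeal := fun p => by
      rw [PrimeSpectrum.comap_asIdeal, Ideal.mem_comap, ← p.isPrime.pow_mem_iff_mem n (Nat.pos_of_ne_zero hn), ← ha]
      rfl
    exact (key (hW.primeIdealOf ⟨z, hzW⟩)).trans (hc ▸ (key (hW.primeIdealOf ⟨z', hz'W⟩)).symm)
  have := congrArg hW.fromSpec hp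
  rwa [hW.fromSpec_primeIdealOf, hW.fromSpec_primeIdealOf] at this

/-- Zariski connectedness over a normal base, from the geometric generic fibre. -/
theorem connectedSpace_fiber [IsLocallyNoetherian Y] (hY : Pi1.IsNormalScheme Y) (f : X ⟶ Y) [IsProper f]
    (hgen : f (genericPoint X) = genericPoint Y) {Ω : Type u} [Field Ω] [IsAlgClosed Ω]
    (η : Spec (CommRingCat.of Ω) ⟶ Y) (hη : η (IsLocalRing.closedPoint Ω) = genericPoint Y)
    [PreconnectedSpace ↥(pullback η f)] (y : Y) : PreconnectedSpace ↥(f.fiber y) := by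
  haveI : UniversallyClosed f.toNormalization := by
    haveI : UniversallyClosed (f.toNormalization ≫ f.fromNormalization) := by
      rw [f.toNormalization_fromNormalization]; infer_instance
    exact UniversallyClosed.of_comp_of_isSeparated _ f.fromNormalization
  haveI : Surjective f.toNormalization := ⟨Set.range_eq_univ.mp
    (by rw [← f.toNormalization.isClosedMap.isClosed_range.closure_eq]; exact f.toNormalization.denseRange.closure_range)⟩
  let q : pullback η f ⟶ pullback η f.fromNormalization :=
    pullback.map η f η f.fromNormalization (𝟙 _) f.toNormalization (𝟙 _) (by simp)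
      (by rw [Category.comp_id, f.toNormalization_fromNormalization])
  have hq : IsPullback (pullback.snd η f) q f.toNormalization (pullback.snd η f.fromNormalization) := by
    refine IsPullback.of_bot ?_ (pullback.lift_snd _ _ _).symm (IsPullback.of_hasPullback η f.fromNormalization).flip
    rw [pullback.lift_fst, Category.comp_id, f.toNormalization_fromNormalization]
    exact (IsPullback.of_hasPullback η f).flip
  haveI : Surjective q := MorphismProperty.of_isPullback hq inferInstance
  haveI : PreconnectedSpace ↥(pullback η f.fromNormalization) :=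
    ⟨by
      rw [← q.surjective.range_eq, ← Set.image_univ]
      exact isPreconnected_univ.image _ q.continuous.continuousOn⟩
  have hgenZ : f.fromNormalization (genericPoint f.normalization) = genericPoint Y := by
    have h1 : f.toNormalization (genericPoint X) = genericPoint f.normalization := by
      have h := (genericPoint_spec X).image f.toNormalization.continuous
      rw [Set.image_univ, f.toNormalization.surjective.range_eq, closure_univ] at h
      exact h.eq (genericPoint_spec _)
    rw [← h1, ← Scheme.Hom.comp_apply, f.toNormalization_fromNormalization, hgen]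
  have hinj := injective_of_integral hY f.fromNormalization hgenZ η hη
  obtain ⟨-, -, hiff⟩ := S4463.result f y
  refine preconnectedSpace_iff_connectedComponent.2 fun x => Set.eq_univ_of_forall fun x' => ?_
  have h : connectedComponent x = connectedComponent x' := (hiff x x').1 <| by
    refine (f.fromNormalization.fiberι y).isEmbedding.injective (hinj ?_)
    exact ((f.fromNormalization.range_fiberι y).le ⟨_, rfl⟩).trans
      ((f.fromNormalization.range_fiberι y).le ⟨_, rfl⟩).symm
  rw [h]
  exact mem_connectedComponent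

end Groth.Agent.ProperConnLib
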