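import Mathlib

/-!
# Integral extensions with geometrically connected generic fibre are radicial
-/

set_option autoImplicit false

universe u

open TensorProduct Polynomial

namespace Groth.Agent.ProperConnLib

/-- If `B` is integral over the normal domain `A` and `Ω ⊗ B` has connected spectrum for an algebraically
closed field `Ω` containing `A`, then every element of `B` has a positive power in `A`. -/
theorem exists_pow_mem {A B Ω : Type u} [CommRing A] [IsDomain A] [IsIntegrallyClosed A] [CommRing B] [IsDomain B]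
    [Algebra A B] [Algebra.IsIntegral A B] [Field Ω] [IsAlgClosed Ω] [Algebra A Ω]
    (hA : Function.Injective (algebraMap A B)) (hΩ : Function.Injective (algebraMap A Ω))
    [PreconnectedSpace (PrimeSpectrum (Ω ⊗[A] B))] (b : B) :
    ∃ n : ℕ, n ≠ 0 ∧ b ^ n ∈ Set.range (algebraMap A B) := by
  classical
  haveI : FaithfulSMul A B := (faithfulSMul_iff_algebraMap_injective A B).mpr hA
  haveI : FaithfulSMul A Ω := (faithfulSMul_iff_algebraMap_injective A Ω).mpr hΩ
  let K := FractionRing A
  let L := FractionRing B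
  haveI : FaithfulSMul A L := (faithfulSMul_iff_algebraMap_injective A L).mpr (by
    rw [IsScalarTower.algebraMap_eq A B L]
    exact (IsFractionRing.injective B L).comp hA)
  letI : Algebra K L := FractionRing.liftAlgebra A L
  letI : Algebra K Ω := FractionRing.liftAlgebra A Ω
  haveI : IsScalarTower A K L := FractionRing.isScalarTower_liftAlgebra A L
  haveI : IsScalarTower A K Ω := FractionRing.isScalarTower_liftAlgebra A Ω
  have hint : ∀ z : B, IsIntegral K (algebraMap B L z) := fun z =>
    ((Algebra.IsIntegral.isIntegral (R := A) z).map (IsScalarTower.toAlgHom A B L)).tower_top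
  haveI : Algebra.IsAlgebraic K L := ⟨fun x => by
    obtain ⟨p, q, -, rfl⟩ := IsFractionRing.div_surjective B x
    rw [div_eq_mul_inv]
    exact ((hint p).mul (hint q).inv).isAlgebraic⟩
  have hb : IsIntegral A b := Algebra.IsIntegral.isIntegral b
  set P := minpoly A b with hP
  have hmin : minpoly K (algebraMap B L b) = P.map (algebraMap A K) :=
    minpoly.isIntegrallyClosed_eq_field_fractions K L hb
  let x : Ω ⊗[A] B := 1 ⊗ₜ b
  let ι : Ω →ₐ[A] Ω ⊗[A] B := Algebra.TensorProduct.includeLeft
  let S : Ω → Set (PrimeSpectrum (Ω ⊗[A] B)) := fun c => PrimeSpectrum.zeroLocus {x - ι c}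
  let R : Finset Ω := (P.aroots Ω).toFinset
  have hR : R = ((minpoly K (algebraMap B L b)).aroots Ω).toFinset := by
    rw [hmin, aroots_map]
  have hne : ∀ c ∈ R, (S c).Nonempty := fun c hc => by
    have hc' : c ∈ (minpoly K (algebraMap B L b)).rootSet Ω := by
      rw [rootSet_def, ← hR]; exact hc
    rw [← Algebra.IsAlgebraic.range_eval_eq_rootSet_minpoly (F := K) (K := L) Ω (algebraMap B L b)] at hc'
    obtain ⟨ψ, hψ⟩ := hc'
    let σ : B →ₐ[A] Ω := (ψ.restrictScalars A).comp (IsScalarTower.toAlgHom A B L)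
    let ρ : Ω ⊗[A] B →ₐ[A] Ω := Algebra.TensorProduct.lift (AlgHom.id A Ω) σ fun _ _ => Commute.all _ _
    refine ⟨⟨RingHom.ker ρ.toRingHom, RingHom.ker_isPrime _⟩, ?_⟩
    rw [PrimeSpectrum.mem_zeroLocus, Set.singleton_subset_iff]
    show ρ (x - ι c) = 0
    simp only [x, ι, ρ, map_sub, Algebra.TensorProduct.includeLeft_apply, Algebra.TensorProduct.lift_tmul,
      map_one, one_mul, mul_one, AlgHom.id_apply]
    rw [sub_eq_zero]
    exact hψ
  have hdisj : ∀ c c', c ≠ c' → Disjoint (S c) (S c') := fun c c' h => by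
    rw [Set.disjoint_left]
    intro p hp hp'
    rw [PrimeSpectrum.mem_zeroLocus, Set.singleton_subset_iff] at hp hp'
    have h3 : ι (c - c') ∈ p.asIdeal := by
      have h4 := p.asIdeal.sub_mem hp' hp
      rwa [sub_sub_sub_cancel_left, ← map_sub] at h4
    exact p.isPrime.ne_top (Ideal.eq_top_of_isUnit_mem _ h3 ((sub_ne_zero.mpr h).isUnit.map ι))
  have hcov : ∀ p, ∃ c ∈ R, p ∈ S c := fun p => by
    have h0 : aeval x P = 0 := by
      have : x = Algebra.TensorProduct.includeRight b := rfl
      rw [this, aeval_algHom_apply, hP, minpoly.aeval, map_zero]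
    have hsplit : P.map (algebraMap A Ω) = ((P.aroots Ω).map fun c => X - C c).prod :=
      (IsAlgClosed.splits _).eq_prod_roots_of_monic ((minpoly.monic hb).map _)
    have h1 : ((P.aroots Ω).map fun c => x - ι c).prod = 0 := by
      have h2 := congrArg (fun Q : Polynomial Ω => Q.eval₂ ι.toRingHom x) hsplit
      simp only [eval₂_map, eval₂_multiset_prod, Multiset.map_map] at h2
      rw [show (ι.toRingHom.comp (algebraMap A Ω)) = algebraMap A (Ω ⊗[A] B) from ι.comp_algebraMap,
        ← aeval_def, h0] at h2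
      rw [h2]
      congr 1
      exact Multiset.map_congr rfl fun c _ => by simp
    have h2 : ((P.aroots Ω).map fun c => x - ι c).prod ∈ p.asIdeal := h1 ▸ zero_mem _
    obtain ⟨y, hy, hyp⟩ := (p.isPrime.multiset_prod_mem_iff_exists_mem _).1 h2
    obtain ⟨c, hc, rfl⟩ := Multiset.mem_map.1 hy
    exact ⟨c, Multiset.mem_toFinset.2 hc, by
      rw [PrimeSpectrum.mem_zeroLocus, Set.singleton_subset_iff]; exact hyp⟩
  have hone : ∀ c ∈ R, ∀ c' ∈ R, c = c' := fun c hc c' hc' => by
    by_contra hcc
    have hcompl : (S c)ᶜ = ⋃ d ∈ (R.erase c : Finset Ω), S d := by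
      ext p
      simp only [Set.mem_compl_iff, Set.mem_iUnion, Finset.mem_erase]
      constructor
      · intro hp
        obtain ⟨d, hd, hpd⟩ := hcov p
        exact ⟨d, ⟨fun e => hp (e ▸ hpd), hd⟩, hpd⟩
      · rintro ⟨d, ⟨hdc, -⟩, hpd⟩ hp
        exact Set.disjoint_left.1 (hdisj d c hdc) hpd hp
    have hclopen : IsClopen (S c) := ⟨PrimeSpectrum.isClosed_zeroLocus _, by
      rw [← isClosed_compl_iff, hcompl]
      exact Set.Finite.isClosed_biUnion (Finset.finite_toSet _) fun d _ => PrimeSpectrum.isClosed_zeroLocus _⟩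
    obtain h | h := isClopen_iff.1 hclopen
    · exact (hne c hc).ne_empty h
    · obtain ⟨p, hp⟩ := hne c' hc'
      exact Set.disjoint_left.1 (hdisj c c' hcc) (h ▸ Set.mem_univ p) hp
  haveI := ringExpChar.expChar K
  have hsep : (minpoly K (algebraMap B L b)).natSepDegree = 1 := by
    refine le_antisymm ?_ (Nat.one_le_iff_ne_zero.2 (natSepDegree_ne_zero _ (minpoly.natDegree_pos (hint b)).ne'))
    rw [natSepDegree_eq_of_isAlgClosed Ω, ← hR]
    exact Finset.card_le_one.2 hone
  obtain ⟨n, k, hk⟩ := (minpoly.natSepDegree_eq_one_iff_pow_mem (ringExpChar K)).1 hsep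
  have hki : IsIntegral A k := by
    refine (isIntegral_algebraMap_iff (algebraMap K L).injective).1 ?_
    rw [hk]
    exact (hb.map (IsScalarTower.toAlgHom A B L)).pow _
  obtain ⟨a, rfl⟩ := IsIntegrallyClosed.isIntegral_iff.1 hki
  refine ⟨ringExpChar K ^ n, pow_ne_zero _ (expChar_pos K _).ne', a, IsFractionRing.injective B L ?_⟩
  rw [← IsScalarTower.algebraMap_apply A B L, map_pow, IsScalarTower.algebraMap_apply A K L]
  exact hk

end Groth.Agent.ProperConnLib
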